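import Mathlib
import Cfsg.Agent.Lib.Helper14.PG63.Defs

/-!
# PG63 [CH]: Cayley–Hamilton with the coefficients forced by `Pred`

With `M' = J Mᵀ J = M⁻¹`, the matrix `h = M + M'` satisfies `h² + c h + c⁴ = 0` (`c = trace M`):
the off-diagonal entries vanish identically in characteristic 2, the diagonal ones by one entry of
each of `Mᵀ J M = J`, `M J Mᵀ = J` and the four diagonal entries of `M* = M^θ`.  Multiplying by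
`M²` gives the statement.
-/

set_option autoImplicit false

namespace Cfsg.Agent.Lib.Helper45.PG63

open Cfsg.Agent.Lib.Helper14.PG63 Matrix

universe u

section

variable {F : Type u} [Field F]

theorem ch_JJ : J4 F * J4 F = 1 := by
  ext i j
  fin_cases i <;> fin_cases j <;> simp [J4, Matrix.mul_apply, Fin.sum_univ_four]

theorem ch_Mi (M : Matrix (Fin 4) (Fin 4) F) (i j : Fin 4) :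
    (J4 F * Mᵀ * J4 F) i j = M (3 - j) (3 - i) := by
  fin_cases i <;> fin_cases j <;>
    simp [J4, Matrix.mul_apply, Fin.sum_univ_four, Matrix.vecMul, dotProduct]

set_option maxHeartbeats 1600000 in
/-- the quadratic equation of `h = M + M⁻¹` -/
theorem ch_quad [CharP F 2] (M H : Matrix (Fin 4) (Fin 4) F)
    (hH : ∀ i j, H i j = M i j + M (3 - j) (3 - i))
    (r1 : M 0 0 * M 3 3 + M 1 0 * M 2 3 + M 2 0 * M 1 3 + M 3 0 * M 0 3 = 1)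
    (r2 : M 0 0 * M 3 3 + M 0 1 * M 3 2 + M 0 2 * M 3 1 + M 0 3 * M 3 0 = 1)
    (s0 : M 0 0 * M 1 1 - M 1 0 * M 0 1 = M 0 0 ^ 4)
    (s1 : M 0 0 * M 2 2 - M 2 0 * M 0 2 = M 1 1 ^ 4)
    (s2 : M 1 1 * M 3 3 - M 3 1 * M 1 3 = M 2 2 ^ 4)
    (s3 : M 2 2 * M 3 3 - M 3 2 * M 2 3 = M 3 3 ^ 4) :
    H * H + M.trace • H + M.trace ^ 4 • (1 : Matrix (Fin 4) (Fin 4) F) = 0 := by
  have h2 : (2 : F) = 0 := CharTwo.two_eq_zero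
  ext i j
  fin_cases i <;> fin_cases j <;>
    simp only [Matrix.add_apply, Matrix.mul_apply, Fin.sum_univ_four, Matrix.smul_apply,
      smul_eq_mul, hH, Matrix.trace, Matrix.diag_apply, Matrix.one_apply, Matrix.zero_apply,
      Fin.zero_eta, Fin.mk_one, Fin.reduceFinMk, Fin.isValue, Fin.reduceSub, Fin.reduceEq,
      if_true, if_false, mul_zero, mul_one, add_zero, sub_zero, sub_self]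
  · linear_combination (exp := 1) r1 + r2 - s0 - s1 - s2 - s3 + ((1) + M 0 0 ^ 2 + (2) * M 0 0 ^ 3 * M 1 1 + (2) * M 0 0 ^ 3 * M 2 2 + (2) * M 0 0 ^ 3 * M 3 3 + (3) * M 0 0 ^ 2 * M 1 1 ^ 2 + (6) * M 0 0 ^ 2 * M 1 1 * M 2 2 + (6) * M 0 0 ^ 2 * M 1 1 * M 3 3 + (3) * M 0 0 ^ 2 * M 2 2 ^ 2 + (6) * M 0 0 ^ 2 * M 2 2 * M 3 3 + (3) * M 0 0 ^ 2 * M 3 3 ^ 2 + M 0 0 * M 1 1 + (2) * M 0 0 * M 1 1 ^ 3 + (6) * M 0 0 * M 1 1 ^ 2 * M 2 2 + (6) * M 0 0 * M 1 1 ^ 2 * M 3 3 + (6) * M 0 0 * M 1 1 * M 2 2 ^ 2 + (12) * M 0 0 * M 1 1 * M 2 2 * M 3 3 + (6) * M 0 0 * M 1 1 * M 3 3 ^ 2 + M 0 0 * M 2 2 + (2) * M 0 0 * M 2 2 ^ 3 + (6) * M 0 0 * M 2 2 ^ 2 * M 3 3 + (6) * M 0 0 * M 2 2 * M 3 3 ^ 2 + M 0 0 * M 3 3 + (2) * M 0 0 * M 3 3 ^ 3 + M 0 3 * M 3 0 + (2) * M 1 1 ^ 3 * M 2 2 + (2) * M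 1 1 ^ 3 * M 3 3 + (3) * M 1 1 ^ 2 * M 2 2 ^ 2 + (6) * M 1 1 ^ 2 * M 2 2 * M 3 3 + (3) * M 1 1 ^ 2 * M 3 3 ^ 2 + (2) * M 1 1 * M 2 2 ^ 3 + (6) * M 1 1 * M 2 2 ^ 2 * M 3 3 + (6) * M 1 1 * M 2 2 * M 3 3 ^ 2 + M 1 1 * M 3 3 + (2) * M 1 1 * M 3 3 ^ 3 + (2) * M 2 2 ^ 3 * M 3 3 + (3) * M 2 2 ^ 2 * M 3 3 ^ 2 + M 2 2 * M 3 3 + (2) * M 2 2 * M 3 3 ^ 3 + M 3 3 ^ 2) * h2
  · linear_combination (exp := 1) (M 0 0 * M 0 1 + M 0 0 * M 2 3 + M 0 1 * M 1 1 + M 0 1 * M 2 2 + M 0 1 * M 3 3 + M 0 2 * M 2 1 + M 0 3 * M 2 0 + M 0 3 * M 3 1 + M 1 1 * M 2 3 + M 1 3 * M 2 1 + M 2 2 * M 2 3 + M 2 3 * M 3 3) * h2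
  · linear_combination (exp := 1) (M 0 0 * M 0 2 + M 0 0 * M 1 3 + M 0 1 * M 1 2 + M 0 2 * M 1 1 + M 0 2 * M 2 2 + M 0 2 * M 3 3 + M 0 3 * M 1 0 + M 0 3 * M 3 2 + M 1 1 * M 1 3 + M 1 2 * M 2 3 + M 1 3 * M 2 2 + M 1 3 * M 3 3) * h2
  · linear_combination (exp := 1) ((3) * M 0 0 * M 0 3 + M 0 1 * M 0 2 + M 0 1 * M 1 3 + M 0 2 * M 2 3 + M 0 3 * M 1 1 + M 0 3 * M 2 2 + (3) * M 0 3 * M 3 3 + M 1 3 * M 2 3) * h2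
  · linear_combination (exp := 1) (M 0 0 * M 1 0 + M 0 0 * M 3 2 + M 0 2 * M 3 0 + M 1 0 * M 1 1 + M 1 0 * M 2 2 + M 1 0 * M 3 3 + M 1 1 * M 3 2 + M 1 2 * M 2 0 + M 1 2 * M 3 1 + M 1 3 * M 3 0 + M 2 2 * M 3 2 + M 3 2 * M 3 3) * h2
  · linear_combination (exp := 1) r1 + r2 - s0 - s1 - s2 - s3 + ((1) + (2) * M 0 0 ^ 3 * M 1 1 + (2) * M 0 0 ^ 3 * M 2 2 + (2) * M 0 0 ^ 3 * M 3 3 + (3) * M 0 0 ^ 2 * M 1 1 ^ 2 + (6) * M 0 0 ^ 2 * M 1 1 * M 2 2 + (6) * M 0 0 ^ 2 * M 1 1 * M 3 3 + (3) * M 0 0 ^ 2 * M 2 2 ^ 2 + (6) * M 0 0 ^ 2 * M 2 2 * M 3 3 + (3) * M 0 0 ^ 2 * M 3 3 ^ 2 + M 0 0 * M 1 1 + (2) * M 0 0 * M 1 1 ^ 3 + (6) * M 0 0 * M 1 1 ^ 2 * M 2 2 + (6) * M 0 0 * M 1 1 ^ 2 * M 3 3 + (6) * M 0 0 * M 1 1 * M 2 2 ^ 2 + (12) * M 0 0 * M 1 1 * M 2 2 * M 3 3 + (6) * M 0 0 * M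 1 1 * M 3 3 ^ 2 + M 0 0 * M 2 2 + (2) * M 0 0 * M 2 2 ^ 3 + (6) * M 0 0 * M 2 2 ^ 2 * M 3 3 + (6) * M 0 0 * M 2 2 * M 3 3 ^ 2 + (-1) * M 0 0 * M 3 3 + (2) * M 0 0 * M 3 3 ^ 3 + (-1) * M 0 3 * M 3 0 + M 1 1 ^ 2 + (2) * M 1 1 ^ 3 * M 2 2 + (2) * M 1 1 ^ 3 * M 3 3 + (3) * M 1 1 ^ 2 * M 2 2 ^ 2 + (6) * M 1 1 ^ 2 * M 2 2 * M 3 3 + (3) * M 1 1 ^ 2 * M 3 3 ^ 2 + (2) * M 1 1 * M 2 2 + (2) * M 1 1 * M 2 2 ^ 3 + (6) * M 1 1 * M 2 2 ^ 2 * M 3 3 + (6) * M 1 1 * M 2 2 * M 3 3 ^ 2 + M 1 1 * M 3 3 + (2) * M 1 1 * M 3 3 ^ 3 + (2) * M 1 2 * M 2 1 + M 2 2 ^ 2 + (2) * M 2 2 ^ 3 * M 3 3 + (3) * M 2 2 ^ 2 * M 3 3 ^ 2 + M 2 2 * M 3 3 + (2) * M 2 2 * M 3 3 ^ 3) * h2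
  · linear_combination (exp := 1) (M 0 0 * M 1 2 + M 0 2 * M 1 0 + M 0 2 * M 3 2 + M 1 0 * M 1 3 + (3) * M 1 1 * M 1 2 + (3) * M 1 2 * M 2 2 + M 1 2 * M 3 3 + M 1 3 * M 3 2) * h2
  · linear_combination (exp := 1) (M 0 0 * M 0 2 + M 0 0 * M 1 3 + M 0 1 * M 1 2 + M 0 2 * M 1 1 + M 0 2 * M 2 2 + M 0 2 * M 3 3 + M 0 3 * M 1 0 + M 0 3 * M 3 2 + M 1 1 * M 1 3 + M 1 2 * M 2 3 + M 1 3 * M 2 2 + M 1 3 * M 3 3) * h2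
  · linear_combination (exp := 1) (M 0 0 * M 2 0 + M 0 0 * M 3 1 + M 0 1 * M 3 0 + M 1 0 * M 2 1 + M 1 1 * M 2 0 + M 1 1 * M 3 1 + M 2 0 * M 2 2 + M 2 0 * M 3 3 + M 2 1 * M 3 2 + M 2 2 * M 3 1 + M 2 3 * M 3 0 + M 3 1 * M 3 3) * h2
  · linear_combination (exp := 1) (M 0 0 * M 2 1 + M 0 1 * M 2 0 + M 0 1 * M 3 1 + (3) * M 1 1 * M 2 1 + M 2 0 * M 2 3 + (3) * M 2 1 * M 2 2 + M 2 1 * M 3 3 + M 2 3 * M 3 1) * h2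
  · linear_combination (exp := 1) r1 + r2 - s0 - s1 - s2 - s3 + ((1) + (2) * M 0 0 ^ 3 * M 1 1 + (2) * M 0 0 ^ 3 * M 2 2 + (2) * M 0 0 ^ 3 * M 3 3 + (3) * M 0 0 ^ 2 * M 1 1 ^ 2 + (6) * M 0 0 ^ 2 * M 1 1 * M 2 2 + (6) * M 0 0 ^ 2 * M 1 1 * M 3 3 + (3) * M 0 0 ^ 2 * M 2 2 ^ 2 + (6) * M 0 0 ^ 2 * M 2 2 * M 3 3 + (3) * M 0 0 ^ 2 * M 3 3 ^ 2 + M 0 0 * M 1 1 + (2) * M 0 0 * M 1 1 ^ 3 + (6) * M 0 0 * M 1 1 ^ 2 * M 2 2 + (6) * M 0 0 * M 1 1 ^ 2 * M 3 3 + (6) * M 0 0 * M 1 1 * M 2 2 ^ 2 + (12) * M 0 0 * M 1 1 * M 2 2 * M 3 3 + (6) * M 0 0 * M 1 1 * M 3 3 ^ 2 + M 0 0 * M 2 2 + (2) * M 0 0 * M 2 2 ^ 3 + (6) * M 0 0 * M 2 2 ^ 2 * M 3 3 + (6) * M 0 0 * M 2 2 * M 3 3 ^ 2 + (-1) * M 0 0 * M 3 3 + (2) * M 0 0 * M 3 3 ^ 3 + (-1) * M 0 3 * M 3 0 + M 1 1 ^ 2 + (2) * M 1 1 ^ 3 * M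 2 2 + (2) * M 1 1 ^ 3 * M 3 3 + (3) * M 1 1 ^ 2 * M 2 2 ^ 2 + (6) * M 1 1 ^ 2 * M 2 2 * M 3 3 + (3) * M 1 1 ^ 2 * M 3 3 ^ 2 + (2) * M 1 1 * M 2 2 + (2) * M 1 1 * M 2 2 ^ 3 + (6) * M 1 1 * M 2 2 ^ 2 * M 3 3 + (6) * M 1 1 * M 2 2 * M 3 3 ^ 2 + M 1 1 * M 3 3 + (2) * M 1 1 * M 3 3 ^ 3 + (2) * M 1 2 * M 2 1 + M 2 2 ^ 2 + (2) * M 2 2 ^ 3 * M 3 3 + (3) * M 2 2 ^ 2 * M 3 3 ^ 2 + M 2 2 * M 3 3 + (2) * M 2 2 * M 3 3 ^ 3) * h2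
  · linear_combination (exp := 1) (M 0 0 * M 0 1 + M 0 0 * M 2 3 + M 0 1 * M 1 1 + M 0 1 * M 2 2 + M 0 1 * M 3 3 + M 0 2 * M 2 1 + M 0 3 * M 2 0 + M 0 3 * M 3 1 + M 1 1 * M 2 3 + M 1 3 * M 2 1 + M 2 2 * M 2 3 + M 2 3 * M 3 3) * h2
  · linear_combination (exp := 1) ((3) * M 0 0 * M 3 0 + M 1 0 * M 2 0 + M 1 0 * M 3 1 + M 1 1 * M 3 0 + M 2 0 * M 3 2 + M 2 2 * M 3 0 + (3) * M 3 0 * M 3 3 + M 3 1 * M 3 2) * h2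
  · linear_combination (exp := 1) (M 0 0 * M 2 0 + M 0 0 * M 3 1 + M 0 1 * M 3 0 + M 1 0 * M 2 1 + M 1 1 * M 2 0 + M 1 1 * M 3 1 + M 2 0 * M 2 2 + M 2 0 * M 3 3 + M 2 1 * M 3 2 + M 2 2 * M 3 1 + M 2 3 * M 3 0 + M 3 1 * M 3 3) * h2
  · linear_combination (exp := 1) (M 0 0 * M 1 0 + M 0 0 * M 3 2 + M 0 2 * M 3 0 + M 1 0 * M 1 1 + M 1 0 * M 2 2 + M 1 0 * M 3 3 + M 1 1 * M 3 2 + M 1 2 * M 2 0 + M 1 2 * M 3 1 + M 1 3 * M 3 0 + M 2 2 * M 3 2 + M 3 2 * M 3 3) * h2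
  · linear_combination (exp := 1) r1 + r2 - s0 - s1 - s2 - s3 + ((1) + M 0 0 ^ 2 + (2) * M 0 0 ^ 3 * M 1 1 + (2) * M 0 0 ^ 3 * M 2 2 + (2) * M 0 0 ^ 3 * M 3 3 + (3) * M 0 0 ^ 2 * M 1 1 ^ 2 + (6) * M 0 0 ^ 2 * M 1 1 * M 2 2 + (6) * M 0 0 ^ 2 * M 1 1 * M 3 3 + (3) * M 0 0 ^ 2 * M 2 2 ^ 2 + (6) * M 0 0 ^ 2 * M 2 2 * M 3 3 + (3) * M 0 0 ^ 2 * M 3 3 ^ 2 + M 0 0 * M 1 1 + (2) * M 0 0 * M 1 1 ^ 3 + (6) * M 0 0 * M 1 1 ^ 2 * M 2 2 + (6) * M 0 0 * M 1 1 ^ 2 * M 3 3 + (6) * M 0 0 * M 1 1 * M 2 2 ^ 2 + (12) * M 0 0 * M 1 1 * M 2 2 * M 3 3 + (6) * M 0 0 * M 1 1 * M 3 3 ^ 2 + M 0 0 * M 2 2 + (2) * M 0 0 * M 2 2 ^ 3 + (6) * M 0 0 * M 2 2 ^ 2 * M 3 3 + (6) * M 0 0 * M 2 2 * M 3 3 ^ 2 + M 0 0 * M 3 3 + (2) * M 0 0 * M 3 3 ^ 3 + M 0 3 * M 3 0 + (2) * M 1 1 ^ 3 * M 2 2 + (2) * M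 1 1 ^ 3 * M 3 3 + (3) * M 1 1 ^ 2 * M 2 2 ^ 2 + (6) * M 1 1 ^ 2 * M 2 2 * M 3 3 + (3) * M 1 1 ^ 2 * M 3 3 ^ 2 + (2) * M 1 1 * M 2 2 ^ 3 + (6) * M 1 1 * M 2 2 ^ 2 * M 3 3 + (6) * M 1 1 * M 2 2 * M 3 3 ^ 2 + M 1 1 * M 3 3 + (2) * M 1 1 * M 3 3 ^ 3 + (2) * M 2 2 ^ 3 * M 3 3 + (3) * M 2 2 ^ 2 * M 3 3 ^ 2 + M 2 2 * M 3 3 + (2) * M 2 2 * M 3 3 ^ 3 + M 3 3 ^ 2) * h2

end

/-- **[CH]** Cayley–Hamilton with the coefficients forced by `Pred`. -/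
theorem pkgCH : PkgCH.{u} := by
  intro F _ _ _ _ M hM
  obtain ⟨h1, hstar⟩ := hM
  have hJJ := ch_JJ (F := F)
  have hL : (J4 F * Mᵀ * J4 F) * M = 1 := by
    rw [Matrix.mul_assoc, Matrix.mul_assoc, ← Matrix.mul_assoc Mᵀ, h1, hJJ]
  have hR : M * (J4 F * Mᵀ * J4 F) = 1 := mul_eq_one_comm.mp hL
  have h1' : M * J4 F * Mᵀ = J4 F := by
    calc M * J4 F * Mᵀ = M * J4 F * Mᵀ * (J4 F * J4 F) := by rw [hJJ, Matrix.mul_one]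
      _ = (M * (J4 F * Mᵀ * J4 F)) * J4 F := by simp only [Matrix.mul_assoc]
      _ = J4 F := by rw [hR, Matrix.one_mul]
  have r1 : M 0 0 * M 3 3 + M 1 0 * M 2 3 + M 2 0 * M 1 3 + M 3 0 * M 0 3 = 1 := by
    have e := congrFun (congrFun h1 0) 3
    simp [J4, Matrix.mul_apply, Fin.sum_univ_four] at e
    linear_combination e
  have r2 : M 0 0 * M 3 3 + M 0 1 * M 3 2 + M 0 2 * M 3 1 + M 0 3 * M 3 0 = 1 := by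
    have e := congrFun (congrFun h1' 0) 3
    simp [J4, Matrix.mul_apply, Fin.sum_univ_four] at e
    linear_combination e
  have s0 : M 0 0 * M 1 1 - M 1 0 * M 0 1 = M 0 0 ^ 4 := by
    have e := congrFun (congrFun hstar 0) 0
    simp [Cfsg.Lie.star4, Cfsg.Lie.pairOf] at e
    linear_combination e
  have s1 : M 0 0 * M 2 2 - M 2 0 * M 0 2 = M 1 1 ^ 4 := by
    have e := congrFun (congrFun hstar 1) 1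
    simp [Cfsg.Lie.star4, Cfsg.Lie.pairOf] at e
    linear_combination e
  have s2 : M 1 1 * M 3 3 - M 3 1 * M 1 3 = M 2 2 ^ 4 := by
    have e := congrFun (congrFun hstar 2) 2
    simp [Cfsg.Lie.star4, Cfsg.Lie.pairOf] at e
    linear_combination e
  have s3 : M 2 2 * M 3 3 - M 3 2 * M 2 3 = M 3 3 ^ 4 := by
    have e := congrFun (congrFun hstar 3) 3
    simp [Cfsg.Lie.star4, Cfsg.Lie.pairOf] at e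
    linear_combination e
  obtain ⟨Mi, hMi⟩ : ∃ Mi, Mi = J4 F * Mᵀ * J4 F := ⟨_, rfl⟩
  rw [← hMi] at hL hR
  have hA := ch_quad M (M + Mi) (fun i j => by rw [Matrix.add_apply, hMi, ch_Mi]) r1 r2 s0 s1 s2 s3
  have h2 : (2 : F) = 0 := CharTwo.two_eq_zero
  have e1 : (M + Mi) * (M + Mi) =
      M * M + Mi * Mi + (2 : F) • (1 : Matrix (Fin 4) (Fin 4) F) := by
    rw [Matrix.add_mul, Matrix.mul_add, Matrix.mul_add, hR, hL, two_smul]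
    abel
  have e2 : M * M * (Mi * Mi) = 1 := by
    rw [Matrix.mul_assoc, ← Matrix.mul_assoc M Mi Mi, hR, Matrix.one_mul, hR]
  have e3 : M * M * Mi = M := by rw [Matrix.mul_assoc, hR, Matrix.mul_one]
  have e4 : M * M * ((M + Mi) * (M + Mi) + M.trace • (M + Mi) + M.trace ^ 4 • 1) = 0 := by
    rw [hA, Matrix.mul_zero]
  rw [e1, h2, zero_smul, add_zero] at e4
  simp only [Matrix.mul_add, Matrix.mul_smul, Matrix.mul_one, e2, e3] at e4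
  rw [← e4]
  simp only [pow_succ, pow_zero, Matrix.one_mul, Matrix.mul_assoc, smul_add]
  abel

end Cfsg.Agent.Lib.Helper45.PG63
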