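import Mathlib
import Cfsg.Agent.Lib.Helper14.PG63.Defs

/-!
# PG63 [LPRIME]: the prime element orders of `L = Sz(8) ⋊ ⟨frobenius⟩` are `2, 3, 5, 7, 13`
-/

set_option autoImplicit false

namespace Cfsg.Agent.Lib.Helper45.PG63

open Cfsg.Agent.Lib.Helper14.PG63

universe u

section

variable {F : Type u} [Field F]

/-- an element of the ambient group with trivial right component -/
theorem lp_eq_inl (y : Amb F) (h : y.right = 1) : y = SemidirectProduct.inl y.left := by
  apply SemidirectProduct.ext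
  · simp
  · rw [SemidirectProduct.right_inl]; exact h

/-- if the right component is trivial and the matrix has `n`-th power one, so has the element -/
theorem lp_pow_eq_one (y : Amb F) (h : y.right = 1) (n : ℕ)
    (hn : (y.left : Matrix (Fin 4) (Fin 4) F) ^ n = 1) : y ^ n = 1 := by
  rw [lp_eq_inl y h, ← map_pow]
  have h2 : y.left ^ n = 1 := Units.ext (by rw [Units.val_pow_eq_pow_val, hn]; rfl)
  rw [h2, map_one]

/-- a nontrivial element of a cyclic group of order 3 has order 3 -/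
theorem lp_order_three {A : Type*} [Group A] (f τ : A) (hf : orderOf f = 3)
    (hτ : τ ∈ Subgroup.zpowers f) (h1 : τ ≠ 1) : orderOf τ = 3 := by
  have : Fact (Nat.Prime 3) := ⟨Nat.prime_three⟩
  apply orderOf_eq_prime _ h1
  obtain ⟨k, hk⟩ := hτ
  rw [← hk, ← zpow_natCast, ← zpow_mul, mul_comm, zpow_mul, zpow_natCast]
  have h3 : f ^ 3 = 1 := by rw [← hf]; exact pow_orderOf_eq_one f
  rw [h3, one_zpow]

end

/-- **[LPRIME]** the prime element orders of `L`. -/
theorem pkgLPrime : PkgLPrime.{u} := by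
  intro hStr hCls hFrob F _ _ _ hF x p hp hx
  obtain ⟨hPred, hτ⟩ := hStr hF (x : Amb F) x.2
  obtain ⟨hfo, -⟩ := hFrob hF
  have hxo : orderOf (x : Amb F) = p := by rw [← hx]; exact Subgroup.orderOf_coe x
  by_cases h1 : (x : Amb F).right = 1
  · have key : ∀ n : ℕ, ((x : Amb F).left : Matrix (Fin 4) (Fin 4) F) ^ n = 1 → p ∣ n := by
      intro n hn
      rw [← hxo]
      exact orderOf_dvd_of_pow_eq_one (lp_pow_eq_one _ h1 n hn)
    rcases hCls hF _ hPred with ⟨-, h⟩ | ⟨-, h⟩ | ⟨-, h⟩ | ⟨-, h⟩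
    · have h4 : p ∣ 2 ^ 2 := key 4 h
      exact Or.inl ((Nat.prime_dvd_prime_iff_eq hp Nat.prime_two).mp (hp.dvd_of_dvd_pow h4))
    · exact Or.inr (Or.inr (Or.inl
        ((Nat.prime_dvd_prime_iff_eq hp (by norm_num)).mp (key 5 h))))
    · exact Or.inr (Or.inr (Or.inr (Or.inl
        ((Nat.prime_dvd_prime_iff_eq hp (by norm_num)).mp (key 7 h)))))
    · exact Or.inr (Or.inr (Or.inr (Or.inr
        ((Nat.prime_dvd_prime_iff_eq hp (by norm_num)).mp (key 13 h)))))
  · have h3 : orderOf (x : Amb F).right = 3 := lp_order_three _ _ hfo hτ h1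
    have hd : 3 ∣ p := by
      rw [← h3, ← hxo]
      exact orderOf_map_dvd SemidirectProduct.rightHom (x : Amb F)
    exact Or.inr (Or.inl ((Nat.prime_dvd_prime_iff_eq Nat.prime_three hp).mp hd).symm)

end Cfsg.Agent.Lib.Helper45.PG63
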